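set_option autoImplicit false
namespace Cfsg.Agent.Lib.Helper6.TCD.J3aL
noncomputable def HL2L0 (i : Nat) : Nat := Nat.land (Nat.shiftRight 0x201000000000000000000000000000000000000000000000000000000000000000111000101000000000000000001000000 (Nat.mul 24 (Nat.land i 1023))) 16777215
noncomputable def HL2L1 (i : Nat) : Nat := Nat.land (Nat.shiftRight 0x0 (Nat.mul 24 (Nat.land i 1023))) 16777215
noncomputable def HL2P0N0 (i : Nat) : Nat := Bool.rec (HL2L0 i) (HL2L1 i) (Nat.ble 1024 i)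
noncomputable def HL2L2 (i : Nat) : Nat := Nat.land (Nat.shiftRight 0x0 (Nat.mul 24 (Nat.land i 1023))) 16777215
noncomputable def HL2L3 (i : Nat) : Nat := Nat.land (Nat.shiftRight 0x0 (Nat.mul 24 (Nat.land i 1023))) 16777215
noncomputable def HL2P0N1 (i : Nat) : Nat := Bool.rec (HL2L2 i) (HL2L3 i) (Nat.ble 3072 i)
noncomputable def HL2P0N2 (i : Nat) : Nat := Bool.rec (HL2P0N0 i) (HL2P0N1 i) (Nat.ble 2048 i)
noncomputable def HL2L4 (i : Nat) : Nat := Nat.land (Nat.shiftRight 0x0 (Nat.mul 24 (Nat.land i 1023))) 16777215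
noncomputable def HL2L5 (i : Nat) : Nat := Nat.land (Nat.shiftRight 0x0 (Nat.mul 24 (Nat.land i 1023))) 16777215
noncomputable def HL2P0N3 (i : Nat) : Nat := Bool.rec (HL2L4 i) (HL2L5 i) (Nat.ble 5120 i)
noncomputable def HL2L6 (i : Nat) : Nat := Nat.land (Nat.shiftRight 0x0 (Nat.mul 24 (Nat.land i 1023))) 16777215
noncomputable def HL2P0N4 (i : Nat) : Nat := Bool.rec (HL2P0N3 i) (HL2L6 i) (Nat.ble 6144 i)
noncomputable def HL2 (i : Nat) : Nat := Bool.rec (HL2P0N2 i) (HL2P0N4 i) (Nat.ble 4096 i)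
end Cfsg.Agent.Lib.Helper6.TCD.J3aL
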