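import Cfsg.Agent.Lib.Helper6.LB1
import Cfsg.Agent.Lib.Helper6.TCD.J3aL.Lv
set_option autoImplicit false
set_option maxRecDepth 1000000
set_option Elab.async false
open Cfsg.Agent.Lib.Helper6.TC
namespace Cfsg.Agent.Lib.Helper6.TCD.J3aL
open Cfsg.Agent.Lib.Helper6.TCD.J3a
theorem chkOrbL0 : chkOrb labL0 rnkL0 mvL0 0 6156 = true := by decide +kernel
theorem cntL0 : cntLab labL0 1 6156 = 6156 := by decide +kernel
end Cfsg.Agent.Lib.Helper6.TCD.J3aL
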